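import Cfsg.Agent.Golay.Octads

/-!
# Running a check on all subset sums of a list
-/

set_option autoImplicit false

namespace Cfsg.Agent.GKTools.Cocode

open Cfsg Cfsg.Agent.Golay

/-- Run a check on every index `k` below `2 ^ length` together with the selected sum of the list. -/
def walk (f : ℕ → ℕ → Bool) : List ℕ → ℕ → ℕ → ℕ → Bool
  | [], _, c, acc => f c acc
  | r :: l, w, c, acc => walk f l (2 * w) c acc && walk f l (2 * w) (c + w) (acc ^^^ r)

theorem walk_spec (f : ℕ → ℕ → Bool) : ∀ (l : List ℕ) (w c acc : ℕ), walk f l w c acc = true →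
    ∀ k < 2 ^ l.length, f (c + w * k) (acc ^^^ xorSel l k) = true := by
  intro l
  induction l with
  | nil =>
    intro w c acc h k hk
    rw [List.length_nil, pow_zero, Nat.lt_one_iff] at hk
    subst hk
    simpa [walk, xorSel] using h
  | cons r l ih =>
    intro w c acc h k hk
    rw [walk, Bool.and_eq_true] at h
    rw [List.length_cons, pow_succ] at hk
    rcases Nat.mod_two_eq_zero_or_one k with hm | hm
    · have := ih _ _ _ h.1 (k / 2) (by omega)
      rw [xorSel, show k.testBit 0 = false by simp [Nat.testBit_zero, hm], cond_false, Nat.zero_xor]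
      rwa [show 2 * w * (k / 2) = w * k by rw [mul_comm 2 w, mul_assoc]; congr 1; omega] at this
    · have := ih _ _ _ h.2 (k / 2) (by omega)
      rw [xorSel, show k.testBit 0 = true by simp [Nat.testBit_zero, hm], cond_true, ← Nat.xor_assoc]
      rwa [show c + w + 2 * w * (k / 2) = c + w * k by
        have h2 : k = 2 * (k / 2) + 1 := by omega
        conv_rhs => rw [h2]
        ring] at this

end Cfsg.Agent.GKTools.Cocode
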