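import Cfsg.Agent.Golay.Octads
import Cfsg.Agent.GKTools.CocodeData
import Cfsg.Agent.GKTools.CocodeWalk

/-!
# Table checks for the factor set on the words of the Golay code
-/

set_option autoImplicit false

namespace Cfsg.Agent.GKTools.Cocode

open Cfsg Cfsg.Agent.Golay

/-- The identity on basis arguments, on bit masks, for one pair of units. -/
def quadLeaf (row x k : ℕ) (c0 : Bool) (c v : ℕ) : Bool :=
  row.testBit (k ^^^ c) == ((c0 ^^ row.testBit c) ^^ Nat.beq (pop24 (x &&& v) % 2) 1)

theorem quad_bool : ((List.range 11).all fun i => (List.range 11).all fun j =>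
    walk (quadLeaf (rowTab.getD i 0) (basis.getD i 0 &&& basis.getD j 0) (2 ^ j)
      ((rowTab.getD i 0).testBit (2 ^ j))) basis 1 0 0) = true := by
  decide +kernel

end Cfsg.Agent.GKTools.Cocode
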