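import Cfsg.Agent.GKTools.CocodeWords
import Cfsg.Agent.AutCert.M23

/-!
# A non-split extension of `M₂₃` by its cocode module

Pairs of a permutation in `M₂₃` and a function on the words avoiding the extra point whose
coboundary is the change of the factor set under the permutation.
-/

set_option autoImplicit false

namespace Cfsg.Agent.GKTools.Cocode

open Cfsg Cfsg.Agent.Golay Cfsg.Agent.SchurCert Cfsg.Agent.AutCert

theorem two_eq_zero (x : ZMod 2) : x + x = 0 := CharTwo.add_self_eq_zero x

theorem exists_act (σ : Spor.M23) : ∃ m, IsAct σ.1 m := by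
  have h24 := (Subgroup.mem_inf.1 σ.2).1
  have hfix : σ.1.symm none = none := by
    rw [Equiv.symm_apply_eq]
    exact (MulAction.mem_stabilizer_iff.1 (Subgroup.mem_inf.1 σ.2).2).symm
  have h : ∀ a, ∃ b, word b = fun p => word a (σ.1.symm p) := fun a =>
    exists_word (mem_M24_iff.1 h24 _ (word_mem a)) (by rw [hfix]; exact word_none a)
  choose m hm using h
  exact ⟨m, fun a p => by rw [hm]; exact congrArg (word a) (Equiv.symm_apply_apply _ _)⟩

/-- The action on indices. -/
noncomputable def act (σ : Spor.M23) : Idx → Idx := (exists_act σ).choose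

theorem act_spec (σ : Spor.M23) : IsAct σ.1 (act σ) := (exists_act σ).choose_spec

theorem act_eq {σ : Spor.M23} {m : Idx → Idx} (h : IsAct σ.1 m) : act σ = m :=
  (act_spec σ).unique h

theorem act_one (a : Idx) : act 1 a = a :=
  congrFun (act_eq (m := id) fun _ _ => rfl) a

theorem act_mul (σ τ : Spor.M23) (a : Idx) : act (σ * τ) a = act σ (act τ a) :=
  congrFun (act_eq (m := fun a => act σ (act τ a)) fun a p =>
    (act_spec σ (act τ a) (τ.1 p)).trans (act_spec τ a p)) a

/-- The condition on the function. -/
def Good (x : Spor.M23 × (Idx → ZMod 2)) : Prop :=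
  ∀ a b, x.2 (xr a b) + x.2 a + x.2 b = phi (act x.1 a) (act x.1 b) + phi a b

/-- The extension. -/
abbrev Ext : Type := {x : Spor.M23 × (Idx → ZMod 2) // Good x}

noncomputable instance : Mul Ext where
  mul x y := ⟨(x.1.1 * y.1.1, fun a => x.1.2 (act y.1.1 a) + y.1.2 a), fun a b => by
    show x.1.2 (act y.1.1 (xr a b)) + y.1.2 (xr a b) + (x.1.2 (act y.1.1 a) + y.1.2 a) +
      (x.1.2 (act y.1.1 b) + y.1.2 b) = phi (act (x.1.1 * y.1.1) a) (act (x.1.1 * y.1.1) b) + phi a b
    rw [act_mul, act_mul, (act_spec y.1.1).map_xr]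
    linear_combination x.2 (act y.1.1 a) (act y.1.1 b) + y.2 a b +
      two_eq_zero (phi (act y.1.1 a) (act y.1.1 b))⟩

noncomputable instance : One Ext where
  one := ⟨(1, 0), fun a b => by
    simp only [act_one, Pi.zero_apply, add_zero]
    exact (two_eq_zero _).symm⟩

noncomputable instance : Inv Ext where
  inv x := ⟨(x.1.1⁻¹, fun a => x.1.2 (act x.1.1⁻¹ a)), fun a b => by
    have hi : ∀ c, act x.1.1 (act x.1.1⁻¹ c) = c := fun c => by rw [← act_mul, mul_inv_cancel, act_one]
    show x.1.2 (act x.1.1⁻¹ (xr a b)) + x.1.2 (act x.1.1⁻¹ a) + x.1.2 (act x.1.1⁻¹ b) = _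
    rw [(act_spec x.1.1⁻¹).map_xr, x.2, hi, hi, add_comm]⟩

theorem mul_fst (x y : Ext) : (x * y).1.1 = x.1.1 * y.1.1 := rfl

theorem mul_snd (x y : Ext) (a : Idx) : (x * y).1.2 a = x.1.2 (act y.1.1 a) + y.1.2 a := rfl

theorem ext' {x y : Ext} (h1 : x.1.1 = y.1.1) (h2 : ∀ a, x.1.2 a = y.1.2 a) : x = y :=
  Subtype.ext (Prod.ext h1 (funext h2))

noncomputable instance : Group Ext where
  mul_assoc x y z := ext' (mul_assoc _ _ _) fun a => by
    simp only [mul_snd, mul_fst, act_mul]; ring
  one_mul x := ext' (one_mul _) fun a => zero_add _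
  mul_one x := ext' (mul_one _) fun a => by
    show x.1.2 (act 1 a) + 0 = _
    rw [act_one, add_zero]
  inv_mul_cancel x := ext' (inv_mul_cancel _) fun a => by
    show x.1.2 (act x.1.1⁻¹ (act x.1.1 a)) + x.1.2 a = 0
    rw [← act_mul, inv_mul_cancel, act_one]
    exact two_eq_zero _

/-- The projection. -/
noncomputable def proj : Ext →* Spor.M23 where
  toFun x := x.1.1
  map_one' := rfl
  map_mul' _ _ := rfl

/-! ## Lifts of the generators -/

/-- The generators. -/
def genPair (g : Fin 3) : ℕ × ℕ := m23Gens.getD g.val (permOne, permOne)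

theorem genPair_mem : ∀ g, genPair g ∈ m23Gens := by decide +kernel

theorem genPair_valid (g : Fin 3) : validPair (genPair g) = true :=
  List.all_eq_true.1 m23Gens_tested.1 _ (genPair_mem g)

/-- The generators in `M₂₃`. -/
noncomputable def gen (g : Fin 3) : Spor.M23 := ⟨permOfPair (genPair g), m23Gens_mem _ (genPair_mem g)⟩

theorem img_check : ∀ g : Fin 3, walk (fun _ v => Nat.blt v 2048) (imgTab.getD g.val []) 1 0 0 = true := by
  decide +kernel

theorem imgTab_length : ∀ g : Fin 3, (imgTab.getD g.val []).length = 11 := by decide +kernel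

/-- The action of a generator on indices. -/
def genAct (g : Fin 3) (a : Idx) : Idx :=
  ⟨xorSel (imgTab.getD g.val []) a.val,
    Nat.le_of_ble_eq_true (walk_eleven (imgTab_length g) (img_check g) a)⟩

theorem genAct_xr (g : Fin 3) (a b : Idx) : genAct g (xr a b) = xr (genAct g a) (genAct g b) :=
  Fin.ext (xorSel_xor _ _ _)

theorem genAct_zero : ∀ g : Fin 3, genAct g 0 = 0 := by decide +kernel

theorem genAct_unit_word : ∀ g : Fin 3, ∀ i : Fin 11, ∀ p,
    word (genAct g (unit i)) (codeFun (genPair g).1 p) = word (unit i) p := by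
  decide +kernel

theorem genAct_isAct (g : Fin 3) : IsAct (gen g).1 (genAct g) := by
  intro a p
  show word (genAct g a) (permOfPair (genPair g) p) = word a p
  rw [permOfPair_apply (genPair_valid g)]
  refine congrFun (additive_ext (f := fun a => word (genAct g a) (codeFun (genPair g).1 p))
    (g := fun a => word a p) (fun a b => ?_) (fun a b => ?_) fun i => genAct_unit_word g i p) a
  · rw [genAct_xr, word_xr]; rfl
  · rw [word_xr]; rfl

theorem act_gen (g : Fin 3) : act (gen g) = genAct g := act_eq (genAct_isAct g)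

/-- The correction of a generator. -/
def genFun (g : Fin 3) (a : Idx) : ZMod 2 := bz ((liftTab.getD g.val 0).testBit a.val)

/-- The condition on the correction for a unit, on bit masks. -/
def liftLeaf (L row img u : ℕ) (c0 : Bool) (c v : ℕ) : Bool :=
  L.testBit (u ^^^ c) == (((c0 ^^ L.testBit c) ^^ img.testBit v) ^^ row.testBit c)

theorem lift_bool : ∀ g : Fin 3, ∀ i : Fin 11,
    walk (liftLeaf (liftTab.getD g.val 0) (rowTab.getD i.val 0)
      ((imgRows.getD g.val []).getD i.val 0) (2 ^ i.val)
      ((liftTab.getD g.val 0).testBit (2 ^ i.val))) (imgTab.getD g.val []) 1 0 0 = true := by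
  decide +kernel

theorem img_row : ∀ g : Fin 3, ∀ i : Fin 11,
    xorSel rowTab (genAct g (unit i)).val = (imgRows.getD g.val []).getD i.val 0 := by
  decide +kernel

theorem lift_unit (g : Fin 3) (i : Fin 11) (c : Idx) :
    genFun g (xr (unit i) c) + genFun g (unit i) + genFun g c =
      phi (genAct g (unit i)) (genAct g c) + phi (unit i) c := by
  have h := walk_eleven (imgTab_length g) (lift_bool g i) c
  rw [liftLeaf, beq_iff_eq] at h
  have e1 : genFun g (xr (unit i) c) = genFun g (unit i) + genFun g c +
      phi (genAct g (unit i)) (genAct g c) + phi (unit i) c := by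
    show bz ((liftTab.getD g.val 0).testBit (2 ^ i.val ^^^ c.val)) = _
    rw [h, bz_xor, bz_xor, bz_xor]
    congr 1
    · congr 1
      show bz _ = bz ((xorSel rowTab (genAct g (unit i)).val).testBit (genAct g c).val)
      rw [img_row]
      rfl
    · show bz _ = bz ((xorSel rowTab (2 ^ i.val)).testBit c.val)
      rw [(unit_tables i).1]
  linear_combination e1 + two_eq_zero (genFun g (unit i)) + two_eq_zero (genFun g c)

theorem genFun_zero : ∀ g : Fin 3, genFun g 0 = 0 := by decide +kernel

theorem genFun_good (g : Fin 3) : Good (gen g, genFun g) := by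
  intro a
  show ∀ b, genFun g (xr a b) + genFun g a + genFun g b = phi (act (gen g) a) (act (gen g) b) + phi a b
  rw [act_gen]
  refine idx_induction (P := fun a => ∀ b,
    genFun g (xr a b) + genFun g a + genFun g b = phi (genAct g a) (genAct g b) + phi a b) ?_ ?_ a
  · intro b
    rw [zero_xr, genFun_zero, genAct_zero, phi_zero_left, phi_zero_left]
    linear_combination two_eq_zero (genFun g b)
  · intro i d hd b
    have T : triple (genAct g (unit i)) (genAct g d) (genAct g b) = triple (unit i) d b :=
      (genAct_isAct g).triple _ _ _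
    have h1 := lift_unit g i (xr d b)
    have h2 := lift_unit g i d
    have h3 := hd b
    rw [genAct_xr, phi_quad, phi_quad, T] at h1
    rw [xr_assoc, genAct_xr, phi_xr_left, phi_xr_left]
    linear_combination h1 + h3 + h2 - two_eq_zero (genFun g (xr d b)) -
      two_eq_zero (genFun g d) - two_eq_zero (genFun g (unit i)) +
      two_eq_zero (phi (genAct g (unit i)) (genAct g d)) + two_eq_zero (phi (unit i) d) +
      two_eq_zero (triple (unit i) d b)

/-- The lifts. -/
noncomputable def lift (g : Fin 3) : Ext := ⟨(gen g, genFun g), genFun_good g⟩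

theorem proj_surjective : Function.Surjective proj := by
  have hK : (proj.range.map Spor.M23.subtype) = Spor.M23 := by
    refine Subgroup.eq_of_le_of_card_ge ?_ ?_
    · rintro _ ⟨x, -, rfl⟩; exact x.2
    · have hb : m23GenC.bound = 10200960 := by decide +kernel
      rw [m23_card, ← hb]
      refine bound_le_of_check m23GenC (by decide +kernel) _ fun k hk => ?_
      refine ⟨_, ⟨gen ⟨k, hk⟩, ⟨lift ⟨k, hk⟩, rfl⟩, rfl⟩, ?_⟩
      show encPerm (permOfPair (genPair ⟨k, hk⟩)) = _
      rw [encPerm_permOfPair (genPair_valid _)]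
      have : ∀ j : Fin 3, (genPair j).1 = m23GenC.val j.val := by decide +kernel
      exact this ⟨k, hk⟩
  intro σ
  obtain ⟨x, hx, e⟩ := (SetLike.ext_iff.1 hK σ.1).2 σ.2
  obtain ⟨y, rfl⟩ := hx
  exact ⟨y, Subtype.ext e⟩

/-! ## The module -/

/-- The pairing of a binary word with the words. -/
def pair (w : GolayPt → ZMod 2) (a : Idx) : ZMod 2 := ∑ p, w p * word a p

theorem pair_xr (w : GolayPt → ZMod 2) (a b : Idx) : pair w (xr a b) = pair w a + pair w b := by
  simp only [pair, word_xr, Pi.add_apply, mul_add, Finset.sum_add_distrib]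

theorem pair_good (w : GolayPt → ZMod 2) : Good (1, pair w) := fun a b => by
  show pair w (xr a b) + pair w a + pair w b = phi (act 1 a) (act 1 b) + phi a b
  rw [pair_xr, act_one, act_one]
  linear_combination two_eq_zero (pair w a) + two_eq_zero (pair w b) - two_eq_zero (phi a b)

/-- The map from binary words to the kernel of the projection. -/
noncomputable def theta : (GolayPt → ZMod 2) →+ Additive proj.ker where
  toFun w := Additive.ofMul ⟨⟨(1, pair w), pair_good w⟩, rfl⟩
  map_zero' := Additive.toMul.injective (Subtype.ext (ext' rfl fun a => by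
    show pair 0 a = 0
    simp [pair]))
  map_add' u v := Additive.toMul.injective (Subtype.ext (ext' (one_mul 1).symm fun a => by
    show pair (u + v) a = pair u (act 1 a) + pair v a
    simp only [act_one, pair, Pi.add_apply, add_mul, Finset.sum_add_distrib]))

/-- A word with prescribed pairings with the units. -/
def spread (x : Fin 11 → ZMod 2) (p : GolayPt) : ZMod 2 :=
  ∑ i, if p = pivotPt i then x i else 0

theorem pair_spread (x : Fin 11 → ZMod 2) (j : Fin 11) : pair (spread x) (unit j) = x j := by
  simp only [pair, spread, Finset.sum_mul]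
  rw [Finset.sum_comm]
  have : ∀ i, ∑ p, (if p = pivotPt i then x i else 0) * word (unit j) p = if i = j then x i else 0 := by
    intro i
    simp [ite_mul, Finset.sum_ite_eq', word_pivot]
  rw [Finset.sum_congr rfl fun i _ => this i]
  simp [Finset.sum_ite_eq']

theorem theta_surjective : Function.Surjective theta := by
  intro n
  obtain ⟨⟨x, hx⟩, rfl⟩ : ∃ y, Additive.ofMul y = n := ⟨n.toMul, rfl⟩
  have h1 : x.1.1 = 1 := hx
  refine ⟨spread fun i => x.1.2 (unit i), Additive.toMul.injective (Subtype.ext (ext' h1.symm ?_))⟩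
  refine congrFun (additive_ext (pair_xr _) (fun a b => ?_) fun i => pair_spread _ i)
  show x.1.2 (xr a b) = x.1.2 a + x.1.2 b
  have := x.2 a b
  rw [h1, act_one, act_one] at this
  linear_combination this - two_eq_zero (x.1.2 a) - two_eq_zero (x.1.2 b) + two_eq_zero (phi a b)

/-- The pairings with the units, as a linear map. -/
def pairLin : (GolayPt → ZMod 2) →ₗ[ZMod 2] (Fin 11 → ZMod 2) where
  toFun w i := pair w (unit i)
  map_add' u v := funext fun i => by
    simp only [pair, Pi.add_apply, add_mul, Finset.sum_add_distrib]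
  map_smul' c v := funext fun i => by
    simp only [pair, Pi.smul_apply, smul_eq_mul, mul_assoc, Finset.mul_sum, RingHom.id_apply]

theorem pairLin_ker : LinearMap.ker pairLin =
    golayCode ⊔ Submodule.span (ZMod 2) {Pi.single none 1} := by
  set e : GolayPt → ZMod 2 := Pi.single none 1 with he
  have hle : golayCode ⊔ Submodule.span (ZMod 2) {e} ≤ LinearMap.ker pairLin := by
    refine sup_le (fun v hv => ?_) ((Submodule.span_singleton_le_iff_mem _ _).2 ?_)
    · exact LinearMap.mem_ker.2 (funext fun i => golay_self_orthogonal hv (word_mem _))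
    · refine LinearMap.mem_ker.2 (funext fun i => ?_)
      show ∑ p, e p * word (unit i) p = 0
      simp [he, Pi.single_apply, ite_mul, word_none]
  refine (Submodule.eq_of_le_of_finrank_eq hle ?_).symm
  have hr : LinearMap.range pairLin = ⊤ :=
    LinearMap.range_eq_top.2 fun x => ⟨spread x, funext (pair_spread x)⟩
  have h1 := LinearMap.finrank_range_add_finrank_ker pairLin
  rw [hr, finrank_top, Module.finrank_fintype_fun_eq_card, Module.finrank_fintype_fun_eq_card] at h1
  have hne : e ≠ 0 := fun h => (one_ne_zero : (1 : ZMod 2) ≠ 0) (by simpa [he] using congrFun h none)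
  have hnot : e ∉ golayCode := fun h => by
    have := eight_le_hammingNorm h hne
    have h1 : hammingNorm e = 1 := by rw [he]; decide +kernel
    omega
  have hd : golayCode ⊓ Submodule.span (ZMod 2) {e} = ⊥ :=
    disjoint_iff.1 ((Submodule.disjoint_span_singleton' hne).2 hnot)
  have h2 := Submodule.finrank_sup_add_finrank_inf_eq golayCode (Submodule.span (ZMod 2) {e})
  rw [hd, finrank_bot, finrank_golayCode, finrank_span_singleton hne] at h2
  simp only [Fintype.card_fin, Fintype.card_option, ZMod.card] at h1
  omega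

theorem theta_snd (w : GolayPt → ZMod 2) : ((theta w).toMul : Ext).1.2 = pair w := rfl

theorem theta_eq_zero_iff_ker (w : GolayPt → ZMod 2) :
    theta w = 0 ↔ w ∈ LinearMap.ker pairLin := by
  rw [LinearMap.mem_ker]
  constructor
  · intro h
    have h' : ((theta w).toMul : Ext) = 1 := by rw [h]; rfl
    funext i
    show pair w (unit i) = 0
    rw [← theta_snd, h']
    rfl
  · intro h
    have hp : pair w = fun _ => 0 :=
      additive_ext (pair_xr w) (fun _ _ => (add_zero _).symm) fun i => congrFun h i
    have h1 : ((theta w).toMul : Ext) = 1 := ext' rfl fun a => by rw [theta_snd, hp]; rfl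
    exact Additive.toMul.injective (Subtype.ext h1)

theorem theta_eq_zero (w : GolayPt → ZMod 2) :
    theta w = 0 ↔ (w ∈ golayCode ∨ w + Pi.single none 1 ∈ golayCode) := by
  rw [theta_eq_zero_iff_ker, pairLin_ker, Submodule.mem_sup]
  have two : ∀ v : GolayPt → ZMod 2, v + v = 0 := fun v => funext fun p => two_eq_zero _
  constructor
  · rintro ⟨y, hy, z, hz, rfl⟩
    obtain ⟨c, rfl⟩ := Submodule.mem_span_singleton.1 hz
    rcases (show ∀ c : ZMod 2, c = 0 ∨ c = 1 by decide) c with rfl | rfl
    · left; rwa [zero_smul, add_zero]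
    · right; rwa [one_smul, add_assoc, two, add_zero]
  · rintro (h | h)
    · exact ⟨w, h, 0, Submodule.zero_mem _, add_zero _⟩
    · exact ⟨_, h, _, Submodule.mem_span_singleton_self _, by rw [add_assoc, two, add_zero]⟩

theorem pair_comp (σ : Spor.M23) (w : GolayPt → ZMod 2) (a : Idx) :
    pair (w ∘ ⇑((σ : Equiv.Perm GolayPt)⁻¹)) (act σ a) = pair w a := by
  unfold pair
  refine (Equiv.sum_comp (σ : Equiv.Perm GolayPt) _).symm.trans (Finset.sum_congr rfl fun p _ => ?_)
  rw [act_spec σ a p, Function.comp_apply]
  exact congrArg (fun q => w q * word a p) (Equiv.symm_apply_apply _ p)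

theorem theta_conj (g : Ext) (w : GolayPt → ZMod 2) :
    ((theta (w ∘ ⇑((proj g : Equiv.Perm GolayPt)⁻¹))).toMul : Ext) =
      g * ((theta w).toMul : Ext) * g⁻¹ := by
  rw [eq_mul_inv_iff_mul_eq]
  refine ext' ((one_mul _).trans (mul_one _).symm) fun a => ?_
  rw [mul_snd, mul_snd, theta_snd, theta_snd]
  refine Eq.trans ?_ (add_comm (pair w a) (g.1.2 (act ((theta w).toMul : Ext).1.1 a)))
  refine congrArg₂ (· + ·) (pair_comp g.1.1 w a) ?_
  exact (congrArg g.1.2 (act_one a)).symm

/-! ## No complement -/

/-- Constant part, arguments of the linear parts, and image of an index along a word. -/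
def run : List (Fin 3) → Idx → Bool × (Fin 3 → Idx) × Idx
  | [], a => (false, fun _ => 0, a)
  | g :: w, a =>
    let r := run w a
    (r.1 ^^ (liftTab.getD g.val 0).testBit r.2.2.val,
      Function.update r.2.1 g (xr (r.2.1 g) r.2.2), genAct g r.2.2)

theorem run_spec (h : Fin 3 → Ext) (l : Fin 3 → Idx → ZMod 2) (hh : ∀ g, (h g).1.1 = gen g)
    (hl : ∀ g a, (h g).1.2 a = genFun g a + l g a) (hadd : ∀ g a b, l g (xr a b) = l g a + l g b) :
    ∀ (w : List (Fin 3)) (a : Idx),
      ((w.map h).prod).1.2 a = bz (run w a).1 + ∑ g, l g ((run w a).2.1 g) ∧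
      act ((w.map h).prod).1.1 a = (run w a).2.2 := by
  have h0 : ∀ g, l g 0 = 0 := fun g => by
    have := hadd g 0 0
    rw [zero_xr] at this
    exact add_eq_left.1 this.symm
  intro w a
  induction w with
  | nil =>
    refine ⟨?_, act_one a⟩
    show (0 : ZMod 2) = bz false + ∑ g, l g 0
    simp [h0, bz]
  | cons g w ih =>
    obtain ⟨ih1, ih2⟩ := ih
    rw [List.map_cons, List.prod_cons]
    constructor
    · rw [mul_snd, ih2, hl, ih1]
      show _ = bz ((run w a).1 ^^ (liftTab.getD g.val 0).testBit (run w a).2.2.val) +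
        ∑ k, l k (Function.update (run w a).2.1 g (xr ((run w a).2.1 g) (run w a).2.2) k)
      have : ∀ k, l k (Function.update (run w a).2.1 g (xr ((run w a).2.1 g) (run w a).2.2) k) =
          l k ((run w a).2.1 k) + if k = g then l g (run w a).2.2 else 0 := by
        intro k
        by_cases hk : k = g
        · subst hk; rw [Function.update_self, hadd, if_pos rfl]
        · rw [Function.update_of_ne hk, if_neg hk, add_zero]
      simp only [this, Finset.sum_add_distrib, Finset.sum_ite_eq', Finset.mem_univ, if_true, bz_xor]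
      show genFun g (run w a).2.2 + _ + _ = _ + genFun g (run w a).2.2 + _
      ring
    · rw [mul_fst, act_mul, ih2, hh, act_gen]
      rfl

/-- The relations, over the three generators. -/
def rels : List (List (Fin 3) × Fin 11) :=
  relations.map fun r => (r.1.map fun k => Fin.ofNat 3 k, Fin.ofNat 11 r.2)

/-- The sums over the relations. -/
def total : List (List (Fin 3) × Fin 11) → Bool × (Fin 3 → Idx)
  | [] => (false, fun _ => 0)
  | r :: R =>
    ((run r.1 (unit r.2)).1 ^^ (total R).1, fun g => xr ((run r.1 (unit r.2)).2.1 g) ((total R).2 g))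

/-- A word is a relation of the generators. -/
def isRel (w : List (Fin 3)) : Bool :=
  Nat.beq (w.foldr (fun g acc => permMul (genPair g).1 acc) permOne) permOne

theorem rels_isRel : ∀ r ∈ rels, isRel r.1 = true := by decide +kernel

theorem total_rels : (total rels).1 = true ∧ ∀ g, (total rels).2 g = 0 := by decide +kernel

theorem prod_gen_eq_one {w : List (Fin 3)} (h : isRel w = true) : (w.map gen).prod = 1 := by
  have e : ∀ v : List (Fin 3), encPerm ((v.map gen).prod : Spor.M23).1 =
      v.foldr (fun g acc => permMul (genPair g).1 acc) permOne := by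
    intro v
    induction v with
    | nil => exact encPerm_one
    | cons g v ih =>
      show encPerm ((gen g * (v.map gen).prod : Spor.M23)).1 =
        permMul (genPair g).1 (v.foldr (fun g acc => permMul (genPair g).1 acc) permOne)
      exact (encPerm_mul _ _).trans
        (congrArg₂ permMul (encPerm_permOfPair (genPair_valid g)) ih)
  refine Subtype.ext (encPerm_injective ?_)
  rw [e, Nat.eq_of_beq_eq_true h]
  exact encPerm_one.symm

theorem no_complement (H : Subgroup Ext) (hd : H ⊓ proj.ker = ⊥) : H ⊔ proj.ker ≠ ⊤ := by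
  intro htop
  have hex : ∀ g, ∃ x ∈ H, proj x = gen g := by
    intro g
    have : lift g ∈ H ⊔ proj.ker := htop ▸ Subgroup.mem_top _
    obtain ⟨x, hx, y, hy, e⟩ := Subgroup.mem_sup_of_normal_right.1 this
    refine ⟨x, hx, ?_⟩
    have := congrArg proj e
    rw [map_mul, MonoidHom.mem_ker.1 hy, mul_one] at this
    exact this
  choose h hH hh using hex
  let l : Fin 3 → Idx → ZMod 2 := fun g a => (h g).1.2 a + genFun g a
  have hl : ∀ g a, (h g).1.2 a = genFun g a + l g a := fun g a => by
    show _ = _ + ((h g).1.2 a + genFun g a)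
    linear_combination - two_eq_zero (genFun g a)
  have hadd : ∀ g a b, l g (xr a b) = l g a + l g b := by
    intro g a b
    have h1 := (h g).2 a b
    rw [show (h g).1.1 = gen g from hh g] at h1
    have h2 := genFun_good g a b
    linear_combination h1 + h2 - two_eq_zero ((h g).1.2 a) - two_eq_zero ((h g).1.2 b) -
      two_eq_zero (genFun g a) - two_eq_zero (genFun g b) +
      two_eq_zero (phi (act (gen g) a) (act (gen g) b)) + two_eq_zero (phi a b)
  have key : ∀ R : List (List (Fin 3) × Fin 11), (∀ r ∈ R, isRel r.1 = true) →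
      bz (total R).1 + ∑ g, l g ((total R).2 g) = 0 := by
    intro R
    induction R with
    | nil =>
      intro _
      have h0 : ∀ g, l g 0 = 0 := fun g => by
        have := hadd g 0 0
        rw [zero_xr] at this
        exact add_eq_left.1 this.symm
      show bz false + ∑ g, l g 0 = 0
      simp [h0, bz]
    | cons r R ih =>
      intro hR
      have hprod : (r.1.map h).prod = 1 := by
        have hm : (r.1.map h).prod ∈ H ⊓ proj.ker := by
          refine ⟨list_prod_mem fun x hx => ?_, MonoidHom.mem_ker.2 ?_⟩
          · obtain ⟨g, -, rfl⟩ := List.mem_map.1 hx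
            exact hH g
          · rw [map_list_prod, List.map_map,
              show (proj ∘ h) = gen from funext hh, prod_gen_eq_one (hR r List.mem_cons_self)]
        rw [hd] at hm
        exact Subgroup.mem_bot.1 hm
      have hr := (run_spec h l hh hl hadd r.1 (unit r.2)).1
      rw [hprod] at hr
      have hR' := ih fun x hx => hR x (List.mem_cons_of_mem _ hx)
      simp only [total, bz_xor, hadd, Finset.sum_add_distrib]
      have hr' : (0 : ZMod 2) = _ := hr
      linear_combination hR' - hr'
  have := key rels rels_isRel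
  rw [total_rels.1] at this
  simp only [total_rels.2] at this
  have h0 : ∀ g, l g 0 = 0 := fun g => by
    have h := hadd g 0 0
    rw [zero_xr] at h
    exact add_eq_left.1 h.symm
  simp [h0, bz] at this

theorem exists_nonsplit_cocode_extension :
    ∃ (E : Type) (_ : Group E) (_ : Finite E) (N : Subgroup E) (_ : N.Normal)
      (φ : E ⧸ N ≃* ↥Cfsg.Spor.M23) (θ : (Cfsg.GolayPt → ZMod 2) →+ Additive ↥N),
      Function.Surjective θ ∧
      (∀ w : Cfsg.GolayPt → ZMod 2, θ w = 0 ↔ (w ∈ Cfsg.golayCode ∨ w + Pi.single none 1 ∈ Cfsg.golayCode)) ∧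
      (∀ (g : E) (w : Cfsg.GolayPt → ZMod 2),
        ((θ (w ∘ ⇑(((φ (QuotientGroup.mk g) : ↥Cfsg.Spor.M23) : Equiv.Perm Cfsg.GolayPt)⁻¹))).toMul : E)
          = g * ((θ w).toMul : E) * g⁻¹) ∧
      ∀ H : Subgroup E, H ⊓ N = ⊥ → H ⊔ N ≠ ⊤ :=
  ⟨Ext, inferInstance, inferInstance, proj.ker, inferInstance,
    QuotientGroup.quotientKerEquivOfSurjective proj proj_surjective, theta,
    theta_surjective, theta_eq_zero, theta_conj, no_complement⟩

end Cfsg.Agent.GKTools.Cocode
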