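import Cfsg.Agent.Golay.Octads
import Cfsg.Agent.GKTools.CocodeData
import Cfsg.Agent.GKTools.CocodeWalk
import Cfsg.Agent.GKTools.CocodeCheck

/-!
# The words of the Golay code avoiding the extra point, and a factor set on them

Words are indexed by `Fin 2048`; the factor set is linear in its first argument and its coboundary
is the triple intersection form.
-/

set_option autoImplicit false

namespace Cfsg.Agent.GKTools.Cocode

open Cfsg Cfsg.Agent.Golay

theorem walk_eleven {f : ℕ → ℕ → Bool} {l : List ℕ} (hl : l.length = 11)
    (h : walk f l 1 0 0 = true) (k : Fin 2048) : f k.val (xorSel l k.val) = true := by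
  have := walk_spec f l 1 0 0 h k.val (by rw [hl]; exact k.isLt)
  simpa using this

/-- Indices of the 2048 words. -/
abbrev Idx : Type := Fin 2048

/-- Addition of indices. -/
def xr (a b : Idx) : Idx := ⟨a.val ^^^ b.val, Nat.xor_lt_two_pow (n := 11) a.isLt b.isLt⟩

/-- The word with index `a`. -/
def word (a : Idx) : GolayPt → ZMod 2 := ofBits (xorSel basis a.val)

theorem word_xr (a b : Idx) : word (xr a b) = word a + word b := by
  show ofBits (xorSel basis (a.val ^^^ b.val)) = _
  rw [xorSel_xor, ofBits_xor]; rfl

/-- The unit indices. -/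
def unit (i : Fin 11) : Idx := ⟨2 ^ i.val, Nat.pow_lt_pow_right (by norm_num) i.isLt⟩

theorem exists_lower (a : Idx) (ha : a ≠ 0) : ∃ i : Fin 11, (xr (unit i) a).val < a.val := by
  have hne : a.val ≠ 0 := fun h => ha (Fin.ext h)
  obtain ⟨i, hi, htop⟩ := Nat.exists_most_significant_bit hne
  have hi11 : i < 11 := by
    by_contra hc
    rw [Nat.testBit_lt_two_pow (lt_of_lt_of_le (show a.val < 2 ^ 11 from a.isLt) (Nat.pow_le_pow_right (show 0 < 2 by norm_num) (not_lt.1 hc)))] at hi
    exact Bool.false_ne_true hi
  refine ⟨⟨i, hi11⟩, Nat.lt_of_testBit i ?_ hi ?_⟩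
  · show (2 ^ i ^^^ a.val).testBit i = false
    rw [Nat.testBit_xor, Nat.testBit_two_pow_self, hi]; rfl
  · intro j hj
    show (2 ^ i ^^^ a.val).testBit j = a.val.testBit j
    rw [Nat.testBit_xor, Nat.testBit_two_pow_of_ne (Nat.ne_of_lt hj), Bool.false_xor]

theorem xr_self (a : Idx) : xr a a = 0 := Fin.ext (Nat.xor_self _)

theorem xr_xr (a b : Idx) : xr a (xr a b) = b :=
  Fin.ext (by simp [xr, ← Nat.xor_assoc])

theorem xr_assoc (a b c : Idx) : xr (xr a b) c = xr a (xr b c) := Fin.ext (Nat.xor_assoc _ _ _)

theorem xr_comm (a b : Idx) : xr a b = xr b a := Fin.ext (Nat.xor_comm _ _)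

theorem zero_xr (a : Idx) : xr 0 a = a := Fin.ext (Nat.zero_xor _)

/-- Induction over sums of unit indices. -/
theorem idx_induction {P : Idx → Prop} (h0 : P 0)
    (h : ∀ i a, P a → P (xr (unit i) a)) : ∀ a, P a := by
  have : ∀ n, ∀ a : Idx, a.val ≤ n → P a := by
    intro n
    induction n with
    | zero => intro a ha; rw [show a = 0 from Fin.ext (by simpa using ha)]; exact h0
    | succ n ih =>
      intro a ha
      by_cases h' : a = 0
      · rw [h']; exact h0
      obtain ⟨i, hi⟩ := exists_lower a h'
      have := h i _ (ih (xr (unit i) a) (by omega))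
      rwa [xr_xr] at this
  exact fun a => this a.val a le_rfl

/-- Additive functions agreeing on units agree. -/
theorem additive_ext {A : Type*} [AddCommGroup A] {f g : Idx → A}
    (hf : ∀ a b, f (xr a b) = f a + f b) (hg : ∀ a b, g (xr a b) = g a + g b)
    (h : ∀ i, f (unit i) = g (unit i)) : f = g := by
  funext a
  refine idx_induction (P := fun a => f a = g a) ?_ (fun i a ha => by rw [hf, hg, h, ha]) a
  have h0 : ∀ F : Idx → A, (∀ a b, F (xr a b) = F a + F b) → F 0 = 0 := fun F hF => by
    have := hF 0 0
    rw [zero_xr] at this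
    exact add_eq_left.1 this.symm
  rw [h0 f hf, h0 g hg]

theorem word_zero : word 0 = 0 := by
  show ofBits (xorSel basis 0) = 0
  rw [show xorSel basis 0 = 0 by decide, ofBits_zero]

theorem basis_codes : ∀ r ∈ basis, enc (r % 4096) = r ∧ r.testBit 23 = false := by decide +kernel

theorem word_mem (a : Idx) : word a ∈ golayCode :=
  ofBits_xorSel_mem _ _ (fun r hr => by rw [← (basis_codes r hr).1]; exact ofBits_enc_mem _) _

theorem unit_none : ∀ i : Fin 11, word (unit i) none = 0 := by decide +kernel

theorem word_none (a : Idx) : word a none = 0 := by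
  refine idx_induction (P := fun a => word a none = 0) ?_ (fun i a ha => ?_) a
  · rw [word_zero]; rfl
  · rw [word_xr, Pi.add_apply, unit_none, ha, add_zero]

/-- The position of the pivot of a basis word. -/
def pivotPt (i : Fin 11) : GolayPt := some (pivots.getD i.val 0 : ℕ)

theorem word_pivot : ∀ i j : Fin 11, word (unit j) (pivotPt i) = if i = j then 1 else 0 := by
  decide +kernel

/-- Read the index from the pivot positions. -/
def readIdx (v : ℕ) : List ℕ → ℕ
  | [] => 0
  | p :: l => 2 * readIdx v l + (v.testBit p).toNat

theorem word_check : walk (fun c v => Nat.beq (readIdx v pivots) c && Nat.blt v 16777216) basis 1 0 0 = true := by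
  decide +kernel

theorem word_injective : Function.Injective word := by
  intro a b h
  have key : ∀ c : Idx, readIdx (xorSel basis c.val) pivots = c.val ∧ xorSel basis c.val < 2 ^ 24 :=
    fun c => by
      have := walk_eleven rfl word_check c
      rw [Bool.and_eq_true] at this
      exact ⟨Nat.eq_of_beq_eq_true this.1, Nat.le_of_ble_eq_true this.2⟩
  have := ofBits_inj (key a).2 (key b).2 h
  exact Fin.ext (by rw [← (key a).1, ← (key b).1, this])

theorem cover_check : check4096 (fun k => (enc k).testBit 23 ||
    (Nat.blt (readIdx (enc k) pivots) 2048 &&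
      Nat.beq (xorSel basis (readIdx (enc k) pivots)) (enc k))) = true := by
  decide +kernel

theorem exists_word {v : GolayPt → ZMod 2} (hv : v ∈ golayCode) (hn : v none = 0) : ∃ a, word a = v := by
  obtain ⟨k, hk, rfl⟩ := (mem_golayCode_iff v).1 hv
  have h := of_check4096 cover_check hk
  have hk' : (enc k).testBit 23 = false := by
    by_contra hc
    rw [Bool.not_eq_false] at hc
    have : ofBits (enc k) none = 1 := by simp [ofBits, ptIdx, hc]
    rw [hn] at this
    exact zero_ne_one this
  rw [hk', Bool.false_or, Bool.and_eq_true] at h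
  exact ⟨⟨_, Nat.le_of_ble_eq_true h.1⟩, congrArg ofBits (Nat.eq_of_beq_eq_true h.2)⟩

/-- A bit as an element of the field of two elements. -/
def bz (b : Bool) : ZMod 2 := if b then 1 else 0

theorem bz_xor (a b : Bool) : bz (a ^^ b) = bz a + bz b := by cases a <;> cases b <;> decide

/-- The factor set. -/
def phi (a b : Idx) : ZMod 2 := bz ((xorSel rowTab a.val).testBit b.val)

theorem phi_xr_left (a b c : Idx) : phi (xr a b) c = phi a c + phi b c := by
  show bz ((xorSel rowTab (a.val ^^^ b.val)).testBit c.val) = _
  rw [xorSel_xor, Nat.testBit_xor, bz_xor]; rfl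

/-- The triple intersection form. -/
def triple (a b c : Idx) : ZMod 2 := ∑ p, word a p * word b p * word c p

/-- The triple form on bit masks. -/
def tripleNat (a b c : Idx) : ℕ :=
  pop24 ((xorSel basis a.val &&& xorSel basis b.val) &&& xorSel basis c.val)

theorem triple_eq (a b c : Idx) : triple a b c = (tripleNat a b c : ZMod 2) := by
  rw [tripleNat, ← sum_mul_ofBits]
  refine Finset.sum_congr rfl fun p _ => ?_
  simp only [word, ofBits, Nat.testBit_and]
  cases (xorSel basis a.val).testBit (ptIdx p) <;> cases (xorSel basis b.val).testBit (ptIdx p) <;> simp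

theorem unit_tables : ∀ i : Fin 11, xorSel rowTab (2 ^ i.val) = rowTab.getD i.val 0 ∧
    xorSel basis (2 ^ i.val) = basis.getD i.val 0 := by
  decide +kernel

theorem quad_check (i j : Fin 11) (c : Idx) :
    phi (unit i) (xr (unit j) c) =
      phi (unit i) (unit j) + phi (unit i) c + bz (Nat.beq (tripleNat (unit i) (unit j) c % 2) 1) := by
  have h := quad_bool
  simp only [List.all_eq_true, List.mem_range] at h
  have := walk_eleven rfl (h i.val i.isLt j.val j.isLt) c
  rw [quadLeaf, beq_iff_eq] at this
  simp only [phi, unit, tripleNat, xr, (unit_tables i).1, (unit_tables i).2, (unit_tables j).2, this, bz_xor]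

theorem phi_zero_left (c : Idx) : phi 0 c = 0 := by
  have := phi_xr_left 0 0 c
  rw [zero_xr] at this
  exact add_eq_left.1 this.symm

theorem unit_zero_check : ∀ i : Fin 11, phi (unit i) 0 = 0 := by decide +kernel

theorem triple_xr_left (a b c d : Idx) : triple (xr a b) c d = triple a c d + triple b c d := by
  simp only [triple, word_xr, Pi.add_apply, add_mul, Finset.sum_add_distrib]

theorem triple_xr_mid (a b c d : Idx) : triple a (xr b c) d = triple a b d + triple a c d := by
  simp only [triple, word_xr, Pi.add_apply, mul_add, add_mul, Finset.sum_add_distrib]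

theorem triple_xr_right (a b c d : Idx) : triple a b (xr c d) = triple a b c + triple a b d := by
  simp only [triple, word_xr, Pi.add_apply, mul_add, Finset.sum_add_distrib]

/-- The coboundary of the factor set is the triple form. -/
theorem phi_quad : ∀ a b c, phi a (xr b c) = phi a b + phi a c + triple a b c := by
  have base : ∀ i b c, phi (unit i) (xr b c) = phi (unit i) b + phi (unit i) c + triple (unit i) b c := by
    intro i b
    refine idx_induction (P := fun b => ∀ c,
      phi (unit i) (xr b c) = phi (unit i) b + phi (unit i) c + triple (unit i) b c) ?_ ?_ b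
    · intro c
      have : triple (unit i) 0 c = 0 := by simp [triple, word_zero]
      rw [zero_xr, unit_zero_check, this]; ring
    intro j b hb c
    have hj : ∀ d, phi (unit i) (xr (unit j) d) =
        phi (unit i) (unit j) + phi (unit i) d + triple (unit i) (unit j) d := by
      intro d
      rw [quad_check, triple_eq]
      congr 1
      rw [← ZMod.natCast_mod (tripleNat (unit i) (unit j) d) 2]
      rcases Nat.mod_two_eq_zero_or_one (tripleNat (unit i) (unit j) d) with h | h <;> rw [h] <;> rfl
    rw [xr_assoc, hj, hj b, hb, triple_xr_right, triple_xr_mid]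
    have two : ∀ x : ZMod 2, x + x = 0 := by decide
    linear_combination (-1 : ZMod 2) * two (0 : ZMod 2)
  intro a
  refine idx_induction (P := fun a => ∀ b c, phi a (xr b c) = phi a b + phi a c + triple a b c) ?_ ?_ a
  · intro b c
    have : triple 0 b c = 0 := by simp [triple, word_zero]
    simp [phi_zero_left, this]
  · intro i a ha b c
    rw [phi_xr_left, phi_xr_left, phi_xr_left, base, ha, triple_xr_left]
    ring

/-- Translation of indices by a permutation of the points. -/
def IsAct (σ : Equiv.Perm GolayPt) (m : Idx → Idx) : Prop := ∀ a p, word (m a) (σ p) = word a p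

theorem IsAct.unique {σ : Equiv.Perm GolayPt} {m m' : Idx → Idx} (h : IsAct σ m) (h' : IsAct σ m') :
    m = m' := by
  funext a
  refine word_injective (funext fun q => ?_)
  obtain ⟨p, rfl⟩ := σ.surjective q
  rw [h, h']

theorem IsAct.map_xr {σ : Equiv.Perm GolayPt} {m : Idx → Idx} (h : IsAct σ m) (a b : Idx) :
    m (xr a b) = xr (m a) (m b) := by
  refine word_injective (funext fun q => ?_)
  obtain ⟨p, rfl⟩ := σ.surjective q
  rw [h, word_xr, word_xr, Pi.add_apply, Pi.add_apply, h, h]

theorem IsAct.triple {σ : Equiv.Perm GolayPt} {m : Idx → Idx} (h : IsAct σ m) (a b c : Idx) :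
    Cocode.triple (m a) (m b) (m c) = Cocode.triple a b c := by
  rw [Cocode.triple, ← Equiv.sum_comp σ]
  exact Finset.sum_congr rfl fun p _ => by rw [h, h, h]

end Cfsg.Agent.GKTools.Cocode
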