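import Cfsg.Agent.GKTools.Unbounded
import Cfsg.Agent.Suzuki.LieModel

/-!
An element of a Suzuki group fixing a nonzero vector of the natural module is unipotent:
with `t` the trace and `e₂` the second coefficient of the characteristic polynomial, `g* = g^θ`
gives `e₂ = t^θ`, and the eigenvalue `1` forces `e₂ = 0`.
-/

set_option autoImplicit false
set_option linter.style.haveILetI false

namespace Cfsg.Agent.GKTools

open Matrix Polynomial

variable {R : Type*} [CommRing R]

/-- The third coefficient in the expansion of the characteristic polynomial of a `4 × 4` matrix. -/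
def minorSum₃ (M : Matrix (Fin 4) (Fin 4) R) : R :=
  (M.submatrix ![0, 1, 2] ![0, 1, 2]).det + (M.submatrix ![0, 1, 3] ![0, 1, 3]).det +
    (M.submatrix ![0, 2, 3] ![0, 2, 3]).det + (M.submatrix ![1, 2, 3] ![1, 2, 3]).det

/-- The sum of the principal `2 × 2` minors. -/
def minorSum₂ (M : Matrix (Fin 4) (Fin 4) R) : R :=
  (M 0 0 * M 1 1 - M 0 1 * M 1 0) + (M 0 0 * M 2 2 - M 0 2 * M 2 0) + (M 0 0 * M 3 3 - M 0 3 * M 3 0) +
    (M 1 1 * M 2 2 - M 1 2 * M 2 1) + (M 1 1 * M 3 3 - M 1 3 * M 3 1) + (M 2 2 * M 3 3 - M 2 3 * M 3 2)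

theorem charpoly_fin_four (M : Matrix (Fin 4) (Fin 4) R) :
    M.charpoly = X ^ 4 - C M.trace * X ^ 3 + C (minorSum₂ M) * X ^ 2 - C (minorSum₃ M) * X + C M.det := by
  simp only [Matrix.charpoly, Matrix.det_succ_row_zero (n := 3), Matrix.det_fin_three, Fin.sum_univ_four,
    Matrix.submatrix_apply, Matrix.charmatrix_apply, Fin.succ_zero_eq_one, Fin.succ_one_eq_two,
    Fin.succAbove, minorSum₂, minorSum₃, Matrix.trace, Matrix.diag]
  simp [Fin.ext_iff, Fin.lt_def]
  ring

variable {F : Type*} [Field F] [Fintype F] {m : ℕ} [hS : Suzuki.SuzukiField F m]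

theorem trace_star4 [CharP F 2] {M : Matrix (Fin 4) (Fin 4) F} (hM : Suzuki.IsSuzMat m M) :
    (Lie.star4 M).trace = minorSum₂ M := by
  have h1 := congrFun (congrFun hM.1 0) 3
  have h2 := congrFun (congrFun (Suzuki.form_mul_transpose hM.1) 1) 2
  simp [suzukiForm, Matrix.mul_apply, Fin.sum_univ_four] at h1 h2
  simp [Lie.star4, Lie.pairOf, minorSum₂, Matrix.trace, Matrix.diag, Fin.sum_univ_four]
  linear_combination (-1 : F) * h1 - h2 + (-(1 : F) + M 0 3 * M 3 0 + M 1 2 * M 2 1 + M 1 0 * M 2 3 + M 2 0 * M 1 3) * CharTwo.two_eq_zero (R := F)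

theorem pow_four_of_fixed [CharP F 2] {M : Matrix (Fin 4) (Fin 4) F} (hM : Suzuki.IsSuzMat m M)
    (hdet : M.det = 1) (v : Fin 4 → F) (hv : v ≠ 0) (h : M *ᵥ v = v) : M ^ 4 = 1 := by
  have hroot : M.charpoly.eval 1 = 0 := by
    rw [Matrix.eval_charpoly, map_one]
    exact Matrix.exists_mulVec_eq_zero_iff.1
      ⟨v, hv, by rw [Matrix.sub_mulVec, h, Matrix.one_mulVec, sub_self]⟩
  rw [charpoly_fin_four, hdet] at hroot
  simp at hroot
  have htr : Suzuki.th F m M.trace = minorSum₂ M := by
    rw [← trace_star4 hM, hM.2]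
    simp [Matrix.trace, Matrix.diag, map_sum]
  obtain ⟨E, hE⟩ : ∃ E : F, Suzuki.th F m M.trace = E := ⟨_, rfl⟩
  rw [← htr, hE] at hroot
  -- the second coefficient is `t + e₃`, and the symplectic symmetry gives `e₃ = t`
  have he3 : minorSum₃ M = M.trace := by
    have hadj : M.adjugate = suzukiForm F * Mᵀ * suzukiForm F := by
      have h1 : (suzukiForm F * Mᵀ * suzukiForm F) * M = 1 := by
        rw [Matrix.mul_assoc, Matrix.mul_assoc, ← Matrix.mul_assoc Mᵀ, hM.1, Suzuki.form_sq]
      have h2 : M.adjugate * M = 1 := by rw [Matrix.adjugate_mul, hdet, one_smul]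
      exact left_inv_eq_left_inv h2 h1
    have h3 := congrArg Matrix.trace hadj
    rw [Matrix.trace_mul_comm, ← Matrix.mul_assoc, Suzuki.form_sq, Matrix.one_mul, Matrix.trace_transpose] at h3
    rw [← h3]
    have e0 : (0 : Fin 4).succAbove = ![1, 2, 3] := by decide
    have e1 : (1 : Fin 4).succAbove = ![0, 2, 3] := by decide
    have e2 : (2 : Fin 4).succAbove = ![0, 1, 3] := by decide
    have e3 : (3 : Fin 4).succAbove = ![0, 1, 2] := by decide
    simp only [minorSum₃, Matrix.trace, Matrix.diag, Fin.sum_univ_four,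
      Matrix.adjugate_fin_succ_eq_det_submatrix, e0, e1, e2, e3]
    norm_num
    ring
  have hE0 : E = 0 := by
    rw [he3] at hroot
    linear_combination hroot + (M.trace - 1) * CharTwo.two_eq_zero (R := F)
  have ht : M.trace = 0 := RingHom.injective _ (by rw [hE, hE0, map_zero])
  have ch := Matrix.aeval_self_charpoly M
  rw [charpoly_fin_four, hdet, ← htr, hE, hE0, he3, ht] at ch
  simp at ch
  rw [eq_neg_of_add_eq_zero_left ch]
  ext i j
  simp [CharTwo.neg_eq]

/-- The natural action. -/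
def szAct : Cfsg.Sz F m →* MulAut (Multiplicative (Fin 4 → F)) where
  toFun g := AddEquiv.toMultiplicative ((Matrix.SpecialLinearGroup.toLin' g.1).toAddEquiv)
  map_one' := by
    refine MulEquiv.ext fun v => Multiplicative.toAdd.injective ?_
    show Matrix.toLin' (1 : Matrix (Fin 4) (Fin 4) F) (Multiplicative.toAdd v) = _
    simp
  map_mul' g h := by
    refine MulEquiv.ext fun v => Multiplicative.toAdd.injective ?_
    show Matrix.toLin' (g.1.1 * h.1.1) (Multiplicative.toAdd v) = Matrix.toLin' g.1.1 (Matrix.toLin' h.1.1 (Multiplicative.toAdd v))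
    simp

theorem exists_large_sz (hm : 1 ≤ m) (N : ℕ) :
    ∃ (H : Type) (_ : Group H) (_ : Finite H), N < Nat.card H ∧
      SamePrimeGraph (Lie.Sz F (2 ^ (m + 1))) H := by
  haveI h2 : CharP F 2 := charP_of_card_eq_prime_pow hS.card
  haveI : Fact (Nat.Prime 2) := ⟨Nat.prime_two⟩
  obtain ⟨H, i1, i2, h1, hgraph⟩ := exists_samePrimeGraph_large (szAct (F := F) (m := m)) 2 Nat.prime_two
    (fun v => ⟨1, Multiplicative.toAdd.injective (by
      rw [pow_one, toAdd_pow, toAdd_one]; funext i; simp [CharTwo.two_eq_zero])⟩)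
    (by
      rw [Nat.card_congr (Suzuki.szEquivLie F m).toEquiv, Suzuki.card_lieSz]
      exact (((dvd_pow_self 2 (by omega)).trans (dvd_pow_self _ two_ne_zero)).mul_right _).mul_right _)
    (by
      intro g r hr hr2 hg v hv hfixv
      exfalso
      have h : g ^ 4 = 1 := by
        apply Subtype.ext
        apply Subtype.ext
        rw [SubgroupClass.coe_pow, Matrix.SpecialLinearGroup.coe_pow]
        refine pow_four_of_fixed (Suzuki.isSuzMat_coe g) g.1.2 (Multiplicative.toAdd v) ?_ ?_
        · exact fun h => hv (Multiplicative.toAdd.injective (by rw [h, toAdd_one]))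
        · exact congrArg Multiplicative.toAdd hfixv
      exact hr2 ((Nat.prime_dvd_prime_iff_eq hr Nat.prime_two).1
        (hr.dvd_of_dvd_pow (m := 2) (n := 2) (hg ▸ orderOf_dvd_of_pow_eq_one h)))) N
  exact ⟨H, i1, i2, h1, (samePrimeGraph_of_mulEquiv (Suzuki.szEquivLie F m).symm).trans hgraph⟩

end Cfsg.Agent.GKTools
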